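import Mathlib
/-!
Reducedness along flat morphisms with reduced fibres.
-/
universe u
open AlgebraicGeometry CategoryTheory TensorProduct
set_option backward.isDefEq.respectTransparency false
set_option linter.style.haveILetI false

namespace Groth.Agent.FlatRed

theorem isReduced_localization_of_fibres {A B : Type u} [CommRing A] [IsNoetherianRing A]
    [CommRing B] [Algebra A B] [Module.Flat A B] (P : Ideal B) [P.IsPrime]
    (hred : _root_.IsReduced (Localization.AtPrime (P.comap (algebraMap A B))))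
    (hfib : ∀ r : Ideal A, ∀ [r.IsPrime], r ≤ P.comap (algebraMap A B) →
      _root_.IsReduced (B ⊗[A] r.ResidueField)) :
    _root_.IsReduced (Localization.AtPrime P) := by
  classical
  let q := P.comap (algebraMap A B)
  let R := Localization.AtPrime q
  let C := Localization.AtPrime P
  haveI : Module.Flat A C := Module.Flat.trans A B C
  haveI : Finite (minimalPrimes A) := (minimalPrimes.finite_of_isNoetherianRing A).to_subtype
  let I := {r : minimalPrimes A // (r : Ideal A) ≤ q}
  haveI : Fintype I := Fintype.ofFinite _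
  haveI hp : ∀ r : I, (r.1.1).IsPrime := fun r => r.1.2.1.1
  let ρ : ∀ r : I, R →ₐ[A] (r.1.1).ResidueField := fun r => IsLocalization.liftAlgHom
    (M := q.primeCompl) (f := Algebra.ofId A (r.1.1).ResidueField) fun s =>
      isUnit_iff_ne_zero.2 fun h0 => s.2 (r.2 (Ideal.algebraMap_residueField_eq_zero.1 h0))
  let ι : R →ₐ[A] ((r : I) → (r.1.1).ResidueField) :=
    { RingHom.pi (fun r : I => (ρ r).toRingHom) with
      commutes' := fun a => funext fun r => (ρ r).commutes a }
  have hι : Function.Injective ι.toLinearMap := by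
    rw [← LinearMap.ker_eq_bot, eq_bot_iff]
    intro z hz
    obtain ⟨a, s, rfl⟩ := IsLocalization.exists_mk'_eq q.primeCompl z
    rw [Submodule.mem_bot]
    refine hred.eq_zero _ ?_
    rw [← mem_nilradical, nilradical_eq_sInf, Ideal.mem_sInf]
    intro p' hp'
    haveI : p'.IsPrime := hp'
    haveI : (p'.comap (algebraMap A R)).IsPrime := Ideal.IsPrime.comap _
    obtain ⟨r, hr, hrp⟩ := Ideal.exists_minimalPrimes_le (I := (⊥ : Ideal A))
      (J := p'.comap (algebraMap A R)) bot_le
    haveI : r.IsPrime := hr.1.1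
    have hrq : r ≤ q := hrp.trans (le_of_le_of_eq
      (Ideal.comap_mono (IsLocalRing.le_maximalIdeal Ideal.IsPrime.ne_top'))
      (IsLocalization.AtPrime.under_maximalIdeal R q))
    let i : I := ⟨⟨r, hr⟩, hrq⟩
    have h0 : ρ i (IsLocalization.mk' R a s) = 0 := congrFun (LinearMap.mem_ker.1 hz) i
    have h1 : algebraMap A (r.ResidueField) a = 0 := by
      have h2 := congrArg (ρ i) (IsLocalization.mk'_spec R a s)
      rw [map_mul, h0, zero_mul, AlgHom.commutes] at h2
      exact h2.symm
    have hmem : algebraMap A R a ∈ p' := hrp (Ideal.algebraMap_residueField_eq_zero.1 h1)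
    rw [← IsLocalization.mk'_spec R a s] at hmem
    rcases Ideal.IsPrime.mem_or_mem ‹_› hmem with h | h
    · exact h
    · exact absurd (Ideal.eq_top_of_isUnit_mem _ h (IsLocalization.map_units R s)) Ideal.IsPrime.ne_top'
  have hloc : ∀ r : I, _root_.IsReduced (C ⊗[A] (r.1.1).ResidueField) := fun r => by
    haveI := hfib r.1.1 r.2
    letI : Algebra (B ⊗[A] (r.1.1).ResidueField) (C ⊗[A] (r.1.1).ResidueField) :=
      (Algebra.TensorProduct.map (IsScalarTower.toAlgHom A B C) (AlgHom.id A (r.1.1).ResidueField)).toRingHom.toAlgebra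
    haveI : IsScalarTower B (B ⊗[A] (r.1.1).ResidueField) (C ⊗[A] (r.1.1).ResidueField) :=
      IsScalarTower.of_algebraMap_eq fun b => by
        change _ = (Algebra.TensorProduct.map (IsScalarTower.toAlgHom A B C)
          (AlgHom.id A (r.1.1).ResidueField)) (b ⊗ₜ[A] 1)
        rw [Algebra.TensorProduct.map_tmul, map_one]
        rfl
    haveI := IsLocalization.tensorProduct_tensorProduct A (r.1.1).ResidueField P.primeCompl C (by
      refine RingHom.ext fun z => ?_
      change (Algebra.TensorProduct.map (IsScalarTower.toAlgHom A B C)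
        (AlgHom.id A (r.1.1).ResidueField)) (1 ⊗ₜ[A] z) = 1 ⊗ₜ[A] z
      rw [Algebra.TensorProduct.map_tmul, map_one]
      rfl)
    exact isReduced_localizationPreserves
      (Algebra.algebraMapSubmonoid (B ⊗[A] (r.1.1).ResidueField) P.primeCompl) (C ⊗[A] (r.1.1).ResidueField)
      ‹_›
  refine ⟨fun c hc => ?_⟩
  have h1 : (LinearMap.lTensor C ι.toLinearMap) (c ⊗ₜ[A] (1 : R)) = 0 := by
    apply (TensorProduct.piRight A A C (fun r : I => (r.1.1).ResidueField)).injective
    rw [map_zero]
    funext r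
    rw [LinearMap.lTensor_tmul, TensorProduct.piRight_apply, TensorProduct.piRightHom_tmul]
    change c ⊗ₜ[A] (ρ r 1) = 0
    rw [map_one]
    refine (hloc r).eq_zero _ ?_
    exact hc.map (Algebra.TensorProduct.includeLeftRingHom (R := A) (A := C) (B := (r.1.1).ResidueField))
  have h2 : c ⊗ₜ[A] (1 : R) = 0 :=
    Module.Flat.lTensor_preserves_injective_linearMap ι.toLinearMap hι (h1.trans (map_zero _).symm)
  let θ : R →ₐ[A] C := IsLocalization.liftAlgHom (M := q.primeCompl) (f := Algebra.ofId A C) fun s => by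
    change IsUnit (algebraMap A C s)
    rw [IsScalarTower.algebraMap_apply A B C]
    exact IsLocalization.map_units C (⟨algebraMap A B s, s.2⟩ : P.primeCompl)
  have h3 := congrArg (Algebra.TensorProduct.lift (AlgHom.id A C) θ (fun x y => Commute.all _ _)) h2
  simpa using h3

theorem isReduced_stalk {X Y : Scheme.{u}} [IsLocallyNoetherian Y] (f : X ⟶ Y) [Flat f] (x : X)
    (hY : _root_.IsReduced (Y.presheaf.stalk (f x)))
    (hfib : ∀ y : Y, AlgebraicGeometry.IsReduced (f.fiber y)) :
    _root_.IsReduced (X.presheaf.stalk x) := by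
  obtain ⟨V, hV, hxV, -⟩ := exists_isAffineOpen_mem_and_subset (show f x ∈ (⊤ : Y.Opens) from trivial)
  obtain ⟨U, hU, hxU, hUV⟩ := exists_isAffineOpen_mem_and_subset (show x ∈ f ⁻¹ᵁ V from hxV)
  haveI : IsNoetherianRing Γ(Y, V) := IsLocallyNoetherian.component_noetherian ⟨V, hV⟩
  algebraize [(f.appLE V U hUV).hom]
  haveI : Module.Flat Γ(Y, V) Γ(X, U) := (Flat.flat_appLE f hV hU hUV)
  let P := (hU.primeIdealOf ⟨x, hxU⟩).asIdeal
  have hcomp := hV.SpecMap_appLE_fromSpec f hU hUV
  have hq : hV.fromSpec (PrimeSpectrum.comap (f.appLE V U hUV).hom (hU.primeIdealOf ⟨x, hxU⟩)) = f x :=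
    (congr($(hcomp).base (hU.primeIdealOf ⟨x, hxU⟩))).trans (congrArg f (hU.fromSpec_primeIdealOf ⟨x, hxU⟩))
  have hred : _root_.IsReduced (Localization.AtPrime (P.comap (algebraMap Γ(Y, V) Γ(X, U)))) := by
    haveI := hY
    have hq' : PrimeSpectrum.comap (f.appLE V U hUV).hom (hU.primeIdealOf ⟨x, hxU⟩) =
        hV.primeIdealOf ⟨f x, hxV⟩ :=
      hV.fromSpec.isOpenEmbedding.injective (hq.trans (hV.fromSpec_primeIdealOf ⟨f x, hxV⟩).symm)
    have hq'' : P.comap (algebraMap Γ(Y, V) Γ(X, U)) = (hV.primeIdealOf ⟨f x, hxV⟩).asIdeal :=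
      congrArg PrimeSpectrum.asIdeal hq'
    haveI := hV.isLocalization_stalk ⟨f x, hxV⟩
    let := Y.presheaf.algebra_section_stalk ⟨f x, hxV⟩
    have hml : (P.comap (algebraMap Γ(Y, V) Γ(X, U))).primeCompl = (hV.primeIdealOf ⟨f x, hxV⟩).asIdeal.primeCompl := by
      ext a
      change a ∉ _ ↔ a ∉ _
      rw [hq'']
    haveI : IsLocalization (P.comap (algebraMap Γ(Y, V) Γ(X, U))).primeCompl (Y.presheaf.stalk (f x)) :=
      hml ▸ (inferInstance : IsLocalization (hV.primeIdealOf ⟨f x, hxV⟩).asIdeal.primeCompl (Y.presheaf.stalk (f x)))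
    exact isReduced_of_injective
      (IsLocalization.algEquiv (P.comap (algebraMap Γ(Y, V) Γ(X, U))).primeCompl
        (Localization.AtPrime (P.comap (algebraMap Γ(Y, V) Γ(X, U)))) (Y.presheaf.stalk (f x))).toAlgHom
      (AlgEquiv.injective _)
  have hfib' : ∀ r : Ideal Γ(Y, V), ∀ [r.IsPrime], r ≤ P.comap (algebraMap Γ(Y, V) Γ(X, U)) →
      _root_.IsReduced (Γ(X, U) ⊗[Γ(Y, V)] r.ResidueField) := by
    intro r _ _
    let p : Spec Γ(Y, V) := (⟨r, ‹_›⟩ : PrimeSpectrum Γ(Y, V))
    let y := hV.fromSpec p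
    let a := Spec.map (CommRingCat.ofHom (algebraMap Γ(Y, V) Γ(X, U)))
    let b := Spec.map (CommRingCat.ofHom (algebraMap Γ(Y, V) r.ResidueField))
    let e1 : Spec (CommRingCat.of r.ResidueField) ⟶ Spec (Y.residueField y) :=
      Spec.map ((Scheme.Hom.residueFieldMap hV.fromSpec p) ≫ (Scheme.Spec.residueFieldIso Γ(Y, V) p).hom)
    have hb : b ≫ hV.fromSpec = e1 ≫ Y.fromSpecResidueField y := by
      have h1 : b = Spec.map (Scheme.Spec.residueFieldIso Γ(Y, V) p).hom ≫ (Spec Γ(Y, V)).fromSpecResidueField p := by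
        rw [← Scheme.Spec.map_residueFieldIso_inv_eq_fromSpecResidueField, ← Category.assoc, ← Spec.map_comp,
          Iso.inv_hom_id, Spec.map_id, Category.id_comp]
      rw [h1, Category.assoc]
      refine (congrArg (Spec.map (Scheme.Spec.residueFieldIso Γ(Y, V) p).hom ≫ ·)
        (Scheme.Hom.SpecMap_residueFieldMap_fromSpecResidueField hV.fromSpec p).symm).trans ?_
      simp only [e1, Spec.map_comp, Category.assoc]
      rfl
    haveI : IsIso e1 := inferInstance
    let m : Limits.pullback a b ⟶ Limits.pullback f (Y.fromSpecResidueField y) :=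
      Limits.pullback.map a b f (Y.fromSpecResidueField y) hU.fromSpec e1 hV.fromSpec
        (by rw [← hcomp]; rfl) hb
    haveI : IsOpenImmersion m := by
      haveI : IsIso (Limits.pullback.map a b (a ≫ hV.fromSpec) (b ≫ hV.fromSpec) (𝟙 _) (𝟙 _) hV.fromSpec (by simp) (by simp)) :=
        ⟨Limits.pullback.lift (Limits.pullback.fst _ _) (Limits.pullback.snd _ _)
          (by rw [← cancel_mono hV.fromSpec, Category.assoc, Category.assoc]; exact Limits.pullback.condition),
          by apply Limits.pullback.hom_ext <;> simp, by apply Limits.pullback.hom_ext <;> simp⟩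
      have hm : m = Limits.pullback.map a b (a ≫ hV.fromSpec) (b ≫ hV.fromSpec) (𝟙 _) (𝟙 _) hV.fromSpec (by simp) (by simp) ≫
          Limits.pullback.map (a ≫ hV.fromSpec) (b ≫ hV.fromSpec) f (Y.fromSpecResidueField y) hU.fromSpec e1 (𝟙 _)
            (by rw [Category.comp_id]; exact hcomp) (by rw [Category.comp_id]; exact hb) := by
        apply Limits.pullback.hom_ext <;> simp [m]
      rw [hm]; infer_instance
    haveI := hfib y
    haveI : AlgebraicGeometry.IsReduced (Limits.pullback a b) := by
      have : AlgebraicGeometry.IsReduced (Limits.pullback f (Y.fromSpecResidueField y)) := hfib y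
      exact isReduced_of_isOpenImmersion m
    haveI : AlgebraicGeometry.IsReduced (Spec (CommRingCat.of (Γ(X, U) ⊗[Γ(Y, V)] r.ResidueField))) :=
      isReduced_of_isOpenImmersion (pullbackSpecIso Γ(Y, V) Γ(X, U) r.ResidueField).inv
    have hR : _root_.IsReduced (CommRingCat.of (Γ(X, U) ⊗[Γ(Y, V)] r.ResidueField)) :=
      (affine_isReduced_iff _).1 inferInstance
    exact hR
  haveI := isReduced_localization_of_fibres P hred (fun r {_} hr => hfib' r hr)
  haveI := hU.isLocalization_stalk ⟨x, hxU⟩
  let := X.presheaf.algebra_section_stalk ⟨x, hxU⟩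
  exact isReduced_of_injective
    (IsLocalization.algEquiv P.primeCompl (X.presheaf.stalk x) (Localization.AtPrime P)).toAlgHom
    (AlgEquiv.injective _)

end Groth.Agent.FlatRed
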